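import Mathlib
import Cfsg.Agent.Lib.Helper4.TIQ.Defs

/-!
# Project TIQ (S4151): package [CYC]

A coprime group of automorphisms of a cyclic `p`-group that fixes a non-identity element is
trivial.
-/

set_option autoImplicit false

namespace Cfsg.Agent.Lib.Helper64.TIQ

universe u

/-- [CYC] a coprime group of automorphisms of a cyclic `p`-group fixing a non-identity element
centralizes the group. -/
theorem pkgCyc : Cfsg.Agent.Lib.Helper4.TIQ.PkgCyc.{u} := by
  intro G _ _ P A p _ hP hcyc hAP hcop hx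
  obtain ⟨x, hxP, hx1, hxA⟩ := hx
  let _ := MulDistribMulAction.compHom P (P.normalizerMonoidHom.comp (Subgroup.inclusion hAP))
  have hsmul : ∀ (a : A) (g : P), ((a • g : P) : G) = (a : G) * g * (a : G)⁻¹ := fun a g => rfl
  obtain ⟨n, hn⟩ := hP.exists_card_eq
  have hPA : (Nat.card P).Coprime (Nat.card A) := by
    rw [hn]
    exact Nat.Coprime.pow_left n hcop.symm
  let ϕ := MulDistribMulAction.toMonoidHomZModOfIsCyclic P A rfl
  have h (g : P) (k : A) (m : ℤ) (h : ϕ k - 1 = m) : k • g * g⁻¹ = g ^ m := by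
    rw [sub_eq_iff_eq_add, ← Int.cast_one, ← Int.cast_add] at h
    rw [MulDistribMulAction.toMonoidHomZModOfIsCyclic_apply rfl k g (m + 1) h,
      zpow_add_one, mul_inv_cancel_right]
  have hG (k : A) : ϕ k = 1 ∨ IsUnit (ϕ k - 1) :=
    ZMod.eq_one_or_isUnit_sub_one hn (ϕ k)
      (hPA.symm.coprime_dvd_left ((orderOf_map_dvd ϕ k).trans (orderOf_dvd_natCard k)))
  have hall : ∀ k : A, ϕ k = 1 := by
    intro k
    rcases hG k with h1 | hunit
    · exact h1
    · exfalso
      obtain ⟨⟨u, v, -, hvu⟩, hu : u = ϕ k - 1⟩ := hunit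
      rw [← u.intCast_zmod_cast] at hu hvu
      rw [← v.intCast_zmod_cast, ← Int.cast_mul, ← Int.cast_one,
        ZMod.intCast_eq_intCast_iff] at hvu
      have hfix : k • (⟨x, hxP⟩ : P) = ⟨x, hxP⟩ := by
        apply Subtype.ext
        rw [hsmul]
        show (k : G) * x * (k : G)⁻¹ = x
        rw [hxA k k.2, mul_inv_cancel_right]
      have h1 := h ⟨x, hxP⟩ k u.cast hu.symm
      rw [hfix, mul_inv_cancel] at h1
      have h2 : (⟨x, hxP⟩ : P) ^ ((v.cast : ℤ) * (u.cast : ℤ)) = (⟨x, hxP⟩ : P) ^ (1 : ℤ) := by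
        rw [zpow_eq_zpow_iff_modEq]
        exact hvu.of_dvd (Int.natCast_dvd_natCast.mpr (orderOf_dvd_natCard _))
      rw [mul_comm, zpow_mul, ← h1, one_zpow, zpow_one] at h2
      exact hx1 (Subtype.ext_iff.mp h2.symm)
  intro a ha
  rw [Subgroup.mem_centralizer_iff]
  intro g hg
  have h1 := h ⟨g, hg⟩ ⟨a, ha⟩ 0 (by rw [hall, sub_self, Int.cast_zero])
  rw [zpow_zero] at h1
  have h2 : (⟨a, ha⟩ : A) • (⟨g, hg⟩ : P) = ⟨g, hg⟩ := by
    rw [← mul_inv_eq_one]; exact h1
  have h3 := congrArg Subtype.val h2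
  rw [hsmul] at h3
  show g * a = a * g
  have h4 : a * g * a⁻¹ = g := h3
  calc g * a = a * g * a⁻¹ * a := by rw [h4]
    _ = a * g := by group

end Cfsg.Agent.Lib.Helper64.TIQ
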