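import Mathlib
import Cfsg.Agent.Lib.Helper4.TIQ.Defs

/-!
# Project TIQ (S4151): package [TRF]

A central Sylow subgroup contained in the derived group is trivial (Burnside transfer).
-/

set_option autoImplicit false

namespace Cfsg.Agent.Lib.Helper64.TIQ

universe u

open scoped IsMulCommutative in
/-- [TRF] a central Sylow subgroup contained in the derived group is trivial. -/
theorem pkgTrf : Cfsg.Agent.Lib.Helper4.TIQ.PkgTrf.{u} := by
  intro K _ _ p _ P hcen hder
  have hP : Subgroup.normalizer (P : Set K) ≤ Subgroup.centralizer (P : Set K) := by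
    intro g _
    rw [Subgroup.mem_centralizer_iff]
    intro h hh
    exact ((Subgroup.mem_center_iff.mp (hcen hh)) g).symm
  have hcomm : IsMulCommutative (P : Subgroup K) := by
    refine ⟨⟨fun a b => Subtype.ext ?_⟩⟩
    exact ((Subgroup.mem_center_iff.mp (hcen a.2)) b.1).symm
  have hcompl := MonoidHom.ker_transferSylow_isComplement' P hP
  have hker : commutator K ≤ (MonoidHom.transferSylow P hP).ker :=
    Abelianization.commutator_subset_ker _
  have hdisj := hcompl.disjoint
  rw [Subgroup.disjoint_def] at hdisj
  rw [eq_bot_iff]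
  intro x hx
  rw [Subgroup.mem_bot]
  exact hdisj (hker (hder hx)) hx

end Cfsg.Agent.Lib.Helper64.TIQ
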